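import Groth.Agent.CurvFam16.NormFF.Divisor
import Groth.Agent.CurvFam16.FFTrace

/-! The Euler characteristic of a normal curve in terms of its function field. -/

noncomputable section

set_option linter.style.haveILetI false
set_option linter.unusedSectionVars false
set_option backward.isDefEq.respectTransparency false
set_option backward.isDefEq.respectTransparency.types false

universe u

open CategoryTheory CategoryTheory.Limits AlgebraicGeometry TopologicalSpace Opposite
open Groth.Agent.CurvFam16.GenFF (ffAlg Pt)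

namespace Groth.Agent.CurvFam16.NormFF

attribute [local instance] ffAlg

variable (k : Type u) [Field k] {X : Scheme.{u}} [X.Over (Spec (CommRingCat.of k))]
  [IsIntegral X] [IsProper (X ↘ Spec (CommRingCat.of k))] [Normal X]
  (hdim : topologicalKrullDim X = 1)

include hdim in
/-- Twists by the powers of a module. -/
theorem exists_twist {U₀ : X.Opens} (h₀ : genericPoint X ∈ U₀) {J : X.Modules}
    (hJ : PicF.IsInvertible J) {b : Γ(J, U₀)} (hb : InvX.IsFrame b) (n : ℕ) :
    ∃ (L : X.Modules) (hL : PicF.IsInvertible L) (c : Γ(L, U₀)) (hc : InvX.IsFrame c),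
      Curv2.deg k X L 1 = (n + 1 : ℤ) * Curv2.deg k X J 1 ∧
      (divisor k hdim hL hc h₀).deg = (n + 1 : ℤ) * (divisor k hdim hJ hb h₀).deg := by
  induction n with
  | zero => exact ⟨J, hJ, b, hb, by simp, by simp⟩
  | succ n ih =>
    obtain ⟨L, hL, c, hc, h1, h2⟩ := ih
    refine ⟨CohB1.tensorMod L J, InvX.isInvertible_tensorMod hL hJ, InvX.tmul c b,
      InvX.isFrame_tmul hc hb, ?_, ?_⟩
    · rw [show Curv2.deg k X (CohB1.tensorMod L J) 1 = _ from CurveRR.deg_tensor k hdim hL hJ, h1]
      push_cast; ring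
    · rw [divisor_tensor k hdim hL hc h₀ hJ hb, FFLib.Divisor.deg_add, h2]
      push_cast; ring

include hdim in
/-- A module of positive degree exists. -/
theorem exists_pos_deg : ∃ J : X.Modules, PicF.IsInvertible J ∧ 0 < Curv2.deg k X J 1 := by
  haveI := CurveCohLib.isNoetherian_of_proper (k := k) (X := X)
  obtain ⟨S, hS, hcl⟩ := CurveSection.exists_closed_finset k (X := X) hdim 1
  obtain ⟨p, hp⟩ := Finset.card_pos.1 (show 0 < S.card by omega)
  have hI := CurveEmbed.isInvertible_point k hdim (hcl p hp) (Normal.icl p)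
  obtain ⟨D, hD, ⟨e⟩⟩ := H23.PicInv.exists_inverse hI
  refine ⟨D, hD, ?_⟩
  have h := CurveRR.deg_tensor k hdim hI hD
  rw [CurveRR.deg_congr k (show (DCoh.tensorBi.obj (CurvePoint.ptMod p (hcl p hp))).obj D ≅ Coh.structureModule X from e),
    CurveDeg.deg_structureModule] at h
  have hneg := GenFF.deg_ptMod_neg k p (hcl p hp)
  omega

include hdim in
/-- `χ(O) = [k' : k] (1 - g)`, `k'` the field of constants. -/
theorem euler_eq {k' : Type u} [Field k'] [Algebra k k'] [Algebra k' X.functionField]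
    [IsScalarTower k k' X.functionField] [FiniteDimensional k k']
    (hK : FunFld.IsFunctionField k' X.functionField) :
    Curv2.euler k X (Coh.structureModule X) =
      (Module.finrank k k' : ℤ) * (1 - FunFld.genus k' X.functionField) := by
  haveI := CurveCohLib.isNoetherian_of_proper (k := k) (X := X)
  have hF := isFF k X hdim
  obtain ⟨N, hN⟩ := FFTrace.exists_ell_eq (k := k) hK
  obtain ⟨γ, hγ⟩ : ∃ γ : ℤ, (Module.finrank k k' : ℤ) * (1 - FunFld.genus k' X.functionField) = γ := ⟨_, rfl⟩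
  rw [hγ] at hN ⊢
  obtain ⟨c, hc⟩ : ∃ c, Curv2.euler k X (Coh.structureModule X) = c := ⟨_, rfl⟩
  rw [hc]
  obtain ⟨J, hJ, hdJ⟩ := exists_pos_deg k hdim
  obtain ⟨U₀, hη, b, hb⟩ := InvX.exists_frame hJ (genericPoint X)
  obtain ⟨δ, hδ⟩ : ∃ δ, (divisor k hdim hJ hb hη).deg = δ := ⟨_, rfl⟩
  obtain ⟨d, hd⟩ : ∃ d, Curv2.deg k X J 1 = d := ⟨_, rfl⟩
  rw [hd] at hdJ
  have hpow : ∀ n : ℕ, (Curv2.genus k X : ℤ) - c ≤ n →
      ∃ D : FunFld.Divisor k X.functionField, D.deg = (n + 1) * δ ∧
        (FunFld.ell D : ℤ) = (n + 1) * d + c := by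
    intro n hn
    obtain ⟨L, hL, e, he, h1, h2⟩ := exists_twist k hdim hη hJ hb n
    refine ⟨divisor k hdim hL he hη, by rw [h2, hδ], ?_⟩
    have hχ : Curv2.euler k X L = (n + 1) * d + c := by
      rw [← hd, ← h1, Curv2.deg, hc]; push_cast; ring
    have hbig : (Curv2.genus k X : ℤ) ≤ Curv2.euler k X L := by
      rw [hχ]
      have h3 : (0 : ℤ) ≤ ((n : ℤ) + 1) * (d - 1) := mul_nonneg (by omega) (by omega)
      linarith
    have hLc := CurveDeg.isCoh_of_isInvertible hL
    haveI := CurveCohLib.Nonspecial.h1_of_euler k hdim hLc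
      (fun φ hφ => CurveCohLib.Nonspecial.section_of_sub k hLc hL (𝟙 L) φ hφ) hbig
    rw [← finrank_h0_eq_ell k hdim hL he hη, ← hχ, CurveRR.euler_eq_h0_sub_h1 k hdim.le hLc.1,
      Module.finrank_zero_of_subsingleton (R := k) (M := Coh.HH X L 1)]
    simp
  have hpos : 1 ≤ δ := by
    by_contra hneg
    obtain ⟨m, hm⟩ : ∃ m : ℕ, |(Curv2.genus k X : ℤ) - c| + |c| +
        (FunFld.ell (0 : FunFld.Divisor k X.functionField) : ℤ) ≤ m := ⟨_, Int.self_le_toNat _⟩
    have habs := abs_nonneg c
    obtain ⟨D, hD, hell⟩ := hpow m (by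
      have := le_abs_self ((Curv2.genus k X : ℤ) - c)
      omega)
    have hle := FFTrace.ell_le_of_deg_nonpos hF (D := D) (by
      rw [hD]; exact mul_nonpos_of_nonneg_of_nonpos (by omega) (by omega))
    have : ((m : ℤ) + 1) * 1 ≤ (m + 1) * d := mul_le_mul_of_nonneg_left (by omega) (by omega)
    have := neg_abs_le c
    have := abs_nonneg ((Curv2.genus k X : ℤ) - c)
    omega
  obtain ⟨n, hn⟩ : ∃ n : ℕ, |(Curv2.genus k X : ℤ) - c| + |N| ≤ n := ⟨_, Int.self_le_toNat _⟩
  have hn1 := le_abs_self ((Curv2.genus k X : ℤ) - c)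
  have hn2 := le_abs_self N
  have hn3 := abs_nonneg N
  have hn4 := abs_nonneg ((Curv2.genus k X : ℤ) - c)
  have key : ∀ m : ℕ, n ≤ m → ((m : ℤ) + 1) * δ + γ = (m + 1) * d + c := by
    intro m hm
    obtain ⟨D, hD, hell⟩ := hpow m (by omega)
    rw [← hell, ← hD]
    refine (hN D ?_).symm
    rw [hD]
    have h3 : (0 : ℤ) ≤ ((m : ℤ) + 1) * (δ - 1) := mul_nonneg (by omega) (by omega)
    linarith
  have e1 := key n le_rfl
  have e2 := key (n + 1) (by omega)
  push_cast at e1 e2
  have : δ = d := by linarith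
  subst this
  linarith

include hdim in
/-- `χ(O)` is a function field invariant. -/
theorem euler_eq_chi : Curv2.euler k X (Coh.structureModule X) = FFTrace.chi k X.functionField := by
  haveI := FFTrace.finite_algebraicClosure (isFF k X hdim)
  exact euler_eq k hdim (FFTrace.isFunctionField_algebraicClosure (isFF k X hdim))

end Groth.Agent.CurvFam16.NormFF
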