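import Groth.Agent.CurvFam16.NormFF.Degree
import Groth.Agent.CurvFam16.FFHurwitz
import Groth.Agent.CurvFam16.P1Map

/-! Places of normal curves under a finite map: ramification indices and residue fields. -/

noncomputable section

set_option linter.style.haveILetI false
set_option linter.unusedSectionVars false
set_option backward.isDefEq.respectTransparency false
set_option backward.isDefEq.respectTransparency.types false

universe u

open CategoryTheory CategoryTheory.Limits AlgebraicGeometry TopologicalSpace Opposite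
open Groth.Agent.CurvFam16.GenFF (ffAlg Pt)
open FunFld WithZero

namespace Groth.Agent.CurvFam16.NormFF

attribute [local instance] ffAlg

/-- The ramification index read on valuations. -/
theorem ramificationIdx_of_val {R S L : Type u} [CommRing R] [IsDomain R] [IsDiscreteValuationRing R]
    [CommRing S] [IsDomain S] [IsDiscreteValuationRing S] [Field L] [Algebra S L] [IsFractionRing S L]
    [Algebra R S] [IsLocalHom (algebraMap R S)] (hinj : Function.Injective (algebraMap R S))
    {ϖ : R} (hϖ : Irreducible ϖ) {n : ℕ}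
    (h : (IsDiscreteValuationRing.maximalIdeal S).valuation L (algebraMap S L (algebraMap R S ϖ)) = exp (-(n : ℤ))) :
    Ideal.ramificationIdx (IsLocalRing.maximalIdeal S) R = n := by
  haveI : Module.IsTorsionFree R S := Module.isTorsionFree_iff_algebraMap_injective.2 hinj
  haveI : (IsLocalRing.maximalIdeal S).LiesOver (IsLocalRing.maximalIdeal R) :=
    ⟨(((IsLocalRing.local_hom_TFAE (algebraMap R S)).out 0 4 rfl rfl).mp inferInstance).symm⟩
  rw [← Ideal.ramificationIdx'_eq_ramificationIdx (IsLocalRing.maximalIdeal R) (IsLocalRing.maximalIdeal S)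
    (fun h => IsDiscreteValuationRing.not_isField R (IsLocalRing.isField_iff_maximalIdeal_eq.2 h))]
  rw [IsDedekindDomain.HeightOneSpectrum.valuation_of_algebraMap] at h
  refine Ideal.ramificationIdx'_spec ?_ ?_
  · rw [hϖ.maximalIdeal_eq, Ideal.map_span, Set.image_singleton, Ideal.span_le, Set.singleton_subset_iff]
    exact ((IsDiscreteValuationRing.maximalIdeal S).intValuation_le_pow_iff_mem _ n).1 h.le
  · rw [hϖ.maximalIdeal_eq, Ideal.map_span, Set.image_singleton, Ideal.span_le, Set.singleton_subset_iff]
    intro h'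
    have := ((IsDiscreteValuationRing.maximalIdeal S).intValuation_le_pow_iff_mem _ (n + 1)).2 h'
    rw [h, exp_le_exp] at this
    omega

/-- A uniformizer has value `exp (-1)`. -/
theorem val_irreducible {R L : Type u} [CommRing R] [IsDomain R] [IsDiscreteValuationRing R]
    [Field L] [Algebra R L] [IsFractionRing R L] {ϖ : R} (hϖ : Irreducible ϖ) :
    (IsDiscreteValuationRing.maximalIdeal R).valuation L (algebraMap R L ϖ) = exp (-1 : ℤ) := by
  rw [IsDedekindDomain.HeightOneSpectrum.valuation_of_algebraMap,
    IsDedekindDomain.HeightOneSpectrum.intValuation_singleton _ hϖ.ne_zero hϖ.maximalIdeal_eq]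

variable (k : Type u) [Field k] (X : Scheme.{u}) [X.Over (Spec (CommRingCat.of k))]
  [IsIntegral X] [IsProper (X ↘ Spec (CommRingCat.of k))] [Normal X] (hdim : topologicalKrullDim X = 1)

include hdim in
/-- The local ring is the valuation ring. -/
theorem exists_stalk_equiv (z : Pt X) :
    ∃ φ : X.presheaf.stalk z.1 ≃+* (pl k X hdim z).O,
      ∀ a, (φ a : X.functionField) = algebraMap (X.presheaf.stalk z.1) X.functionField a := by
  let φ : X.presheaf.stalk z.1 →+* (pl k X hdim z).O :=
    (algebraMap (X.presheaf.stalk z.1) X.functionField).codRestrict (pl k X hdim z).O.toSubring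
      fun a => (inR_iff k X hdim z _).1 ⟨a, rfl⟩
  have hφ : Function.Bijective φ := by
    refine ⟨fun a b h => IsFractionRing.injective (X.presheaf.stalk z.1) X.functionField
      (congrArg Subtype.val h), fun c => ?_⟩
    obtain ⟨a, ha⟩ := (inR_iff k X hdim z c.1).2 c.2
    exact ⟨a, Subtype.ext ha⟩
  exact ⟨RingEquiv.ofBijective φ hφ, fun a => rfl⟩

include hdim in
theorem deg_pl (z : Pt X) :
    (pl k X hdim z).deg = @Module.finrank k (X.residueField z.1) _ _ (Curv2.resAlgebra k X z.1).toModule := by
  letI := Curv2.resAlgebra k X z.1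
  obtain ⟨φ, hφ⟩ := exists_stalk_equiv k X hdim z
  let e : X.residueField z.1 ≃ₐ[k] IsLocalRing.ResidueField (pl k X hdim z).O :=
    AlgEquiv.ofRingEquiv (f := IsLocalRing.ResidueField.mapEquiv φ) fun c => by
      show IsLocalRing.residue (pl k X hdim z).O (φ (Curv2.stalkMap k X z.1 c)) =
        IsLocalRing.residue (pl k X hdim z).O (algebraMap k (pl k X hdim z).O c)
      exact congrArg _ (Subtype.ext ((hφ _).trans (GenFF.algebraMap_eq k X z.1 c).symm))
  exact e.toLinearEquiv.finrank_eq.symm

variable {X} {Y : Scheme.{u}} [Y.Over (Spec (CommRingCat.of k))]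
  [IsIntegral Y] [IsProper (Y ↘ Spec (CommRingCat.of k))] [Normal Y] (hdY : topologicalKrullDim Y = 1)
  (f : X ⟶ Y) [IsFinite f] (e : f (genericPoint X) = genericPoint Y)

omit [IsProper (X ↘ Spec (CommRingCat.of k))] [Normal X] [IsProper (Y ↘ Spec (CommRingCat.of k))] [Normal Y]
  [IsFinite f] in
theorem ffMap_algebraMap (x : X) (a : Y.presheaf.stalk (f x)) :
    P1Map.ffMap f e (algebraMap (Y.presheaf.stalk (f x)) Y.functionField a) =
      algebraMap (X.presheaf.stalk x) X.functionField (f.stalkMap x a) := by
  have h : (genericPoint_spec Y).specializes (Set.mem_univ (f x)) =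
      ((specializes_of_eq e.symm).trans (Specializes.map ((genericPoint_spec X).specializes (Set.mem_univ x)) f.continuous)) := rfl
  show (Y.presheaf.stalkSpecializes (specializes_of_eq e) ≫ f.stalkMap (genericPoint X))
    ((Y.presheaf.stalkSpecializes ((genericPoint_spec Y).specializes (Set.mem_univ (f x)))) a) =
    X.presheaf.stalkSpecializes ((genericPoint_spec X).specializes (Set.mem_univ x)) (f.stalkMap x a)
  rw [← CommRingCat.comp_apply, TopCat.Presheaf.stalkSpecializes_comp_assoc, ← CommRingCat.comp_apply]
  exact congr($(Scheme.Hom.stalkSpecializes_stalkMap f (genericPoint X) x ((genericPoint_spec X).specializes (Set.mem_univ x))) a)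

/-- The image of a closed point. -/
def below (z : Pt X) : Pt Y := ⟨f z.1, by simpa using f.isClosedMap _ z.2⟩

include hdim hdY in
/-- The image of a closed point lies below it. -/
theorem exists_isOver [Algebra Y.functionField X.functionField]
    (halg : ∀ a, algebraMap Y.functionField X.functionField a = P1Map.ffMap f e a)
    [IsScalarTower k Y.functionField X.functionField] [FiniteDimensional Y.functionField X.functionField]
    (z : Pt X) : ∃ n, IsOverWith (pl k X hdim z) (pl k Y hdY (below f z)) n := by
  obtain ⟨P', n, hn1, hn⟩ := FFLib.exists_over (isFF k Y hdY) (pl k X hdim z)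
  have hPP : pl k Y hdY (below f z) = P' := FFLib.place_eq_of_le fun c hc => by
    obtain ⟨a, rfl⟩ := (inR_iff k Y hdY (below f z) c).2 hc
    have h := hn (algebraMap (Y.presheaf.stalk (below f z).1) Y.functionField a)
    have hle : (pl k X hdim z).1 (algebraMap Y.functionField X.functionField
        (algebraMap (Y.presheaf.stalk (below f z).1) Y.functionField a)) ≤ 1 := by
      rw [halg]
      erw [ffMap_algebraMap f e z.1 a]
      exact (inR_iff k X hdim z _).1 ⟨_, rfl⟩
    rw [h] at hle
    exact (pow_le_one_iff (by omega)).mp hle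
  exact ⟨n, hPP ▸ hn⟩

include hdim hdY in
/-- The ramification index. -/
theorem ram_eq [Algebra Y.functionField X.functionField]
    (halg : ∀ a, algebraMap Y.functionField X.functionField a = P1Map.ffMap f e a)
    (z : Pt X) {n : ℕ} (hn : IsOverWith (pl k X hdim z) (pl k Y hdY (below f z)) n) :
    letI := (f.stalkMap z.1).hom.toAlgebra
    Ideal.ramificationIdx (IsLocalRing.maximalIdeal (X.presheaf.stalk z.1)) (Y.presheaf.stalk (f z.1)) = n := by
  haveI hdvrX := isDVR k X hdim z.2
  haveI hdvrY : IsDiscreteValuationRing (Y.presheaf.stalk (f z.1)) := isDVR k Y hdY (below f z).2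
  haveI hdvrY' : IsDiscreteValuationRing (Y.presheaf.stalk (below f z).1) := isDVR k Y hdY (below f z).2
  letI := (f.stalkMap z.1).hom.toAlgebra
  have hloc : IsLocalHom (f.stalkMap z.1).hom := inferInstance
  haveI : IsLocalHom (algebraMap (Y.presheaf.stalk (f z.1)) (X.presheaf.stalk z.1)) := hloc
  obtain ⟨ϖ, hϖ⟩ := IsDiscreteValuationRing.exists_irreducible (Y.presheaf.stalk (f z.1))
  have hinj : Function.Injective (f.stalkMap z.1).hom := fun a b hab => by
    refine IsFractionRing.injective (Y.presheaf.stalk (f z.1)) Y.functionField ((P1Map.ffMap f e).hom.injective ?_)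
    rw [ffMap_algebraMap f e z.1 a, ffMap_algebraMap f e z.1 b]
    exact congrArg _ hab
  refine ramificationIdx_of_val (L := X.functionField) hinj hϖ ?_
  show (pl k X hdim z).1 (algebraMap (X.presheaf.stalk z.1) X.functionField (f.stalkMap z.1 ϖ)) = _
  rw [← ffMap_algebraMap f e z.1 ϖ, ← halg, hn,
    show (pl k Y hdY (below f z)).1 (algebraMap (Y.presheaf.stalk (f z.1)) Y.functionField ϖ) = exp (-1 : ℤ) from
      val_irreducible hϖ, ← exp_nsmul]
  simp

include hdim hdY in
/-- The map of residue fields. -/
theorem exists_res [Algebra Y.functionField X.functionField]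
    (halg : ∀ a, algebraMap Y.functionField X.functionField a = P1Map.ffMap f e a) (z : Pt X) :
    ∃ (ι : FFLib.Res (pl k Y hdY (below f z)) →+* FFLib.Res (pl k X hdim z))
      (eY : Y.residueField (f z.1) ≃+* FFLib.Res (pl k Y hdY (below f z)))
      (eX : X.residueField z.1 ≃+* FFLib.Res (pl k X hdim z)),
      (∀ (x : (pl k Y hdY (below f z)).O) (y : (pl k X hdim z).O),
        (y : X.functionField) = algebraMap Y.functionField X.functionField x →
          ι (IsLocalRing.residue _ x) = IsLocalRing.residue _ y) ∧
      ∀ a, ι (eY a) = eX ((f.residueFieldMap z.1).hom a) := by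
  obtain ⟨φX, hφX⟩ := exists_stalk_equiv k X hdim z
  obtain ⟨φY, hφY⟩ := exists_stalk_equiv k Y hdY (below f z)
  let eX : X.residueField z.1 ≃+* FFLib.Res (pl k X hdim z) := IsLocalRing.ResidueField.mapEquiv φX
  let eY : Y.residueField (f z.1) ≃+* FFLib.Res (pl k Y hdY (below f z)) := IsLocalRing.ResidueField.mapEquiv φY
  refine ⟨eX.toRingHom.comp ((f.residueFieldMap z.1).hom.comp eY.symm.toRingHom), eY, eX, fun x y hxy => ?_,
    fun a => congrArg (fun b => eX ((f.residueFieldMap z.1).hom b)) (eY.symm_apply_apply a)⟩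
  obtain ⟨a, rfl⟩ := φY.surjective x
  have hy : y = φX (f.stalkMap z.1 a) := Subtype.ext (by
    rw [hxy, hφY, hφX, halg]
    exact ffMap_algebraMap f e z.1 a)
  subst hy
  show eX ((f.residueFieldMap z.1).hom (eY.symm (eY (Y.residue _ a)))) = _
  rw [eY.symm_apply_apply]
  exact congrArg eX (ConcreteCategory.congr_hom (Scheme.residue_residueFieldMap f z.1) a)

/-- Tameness transported along isomorphisms of the residue fields. -/
theorem isTame_iff {k : Type u} {K K' : Type u} [Field k] [Field K] [Field K'] [Algebra k K] [Algebra k K']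
    {P : FunFld.Place k K} {Q : FunFld.Place k K'} {n : ℕ} (ι : FFLib.Res P →+* FFLib.Res Q)
    {A B : Type u} [Field A] [Field B] [Algebra A B] (eA : A ≃+* FFLib.Res P) (eB : B ≃+* FFLib.Res Q)
    (h : ∀ a, ι (eA a) = eB (algebraMap A B a)) :
    FFHurwitz.IsTame P Q n ι ↔ Algebra.IsSeparable A B ∧ (n : A) ≠ 0 := by
  letI := ι.toAlgebra
  show ((n : FFLib.Res P) ≠ 0 ∧ Algebra.IsSeparable (FFLib.Res P) (FFLib.Res Q)) ↔ _
  rw [and_comm]
  refine and_congr ⟨fun hs => ?_, fun hs => ?_⟩ (not_congr ?_)
  · refine Algebra.IsSeparable.of_equiv_equiv eA.symm eB.symm ?_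
    ext b
    obtain ⟨a, rfl⟩ := eA.surjective b
    show algebraMap A B (eA.symm (eA a)) = eB.symm (ι (eA a))
    rw [eA.symm_apply_apply, h, eB.symm_apply_apply]
  · exact Algebra.IsSeparable.of_equiv_equiv eA eB (RingHom.ext h)
  · rw [← map_natCast eA n, map_eq_zero_iff eA eA.injective]

end Groth.Agent.CurvFam16.NormFF
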